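import Cfsg.Agent.Lib.Chev.TwistD4
import Cfsg.Agent.Lib.Chev.GTorus.Weyl
import Cfsg.Agent.Lib.Chev.SL2
import Cfsg.Agent.Lib.Classical.Transvection
import Cfsg.Agent.Lib.Chev.Functorial

/-!
Tools for tori of `³D₄(q)` built in the Levi subgroup of the central node: the `SL₂` of the central
node over any field, its conjugation by diagonal elements, and its behaviour under the twist.
-/

set_option autoImplicit false
set_option maxRecDepth 100000

namespace CfsgLib.Chev.TorusD4

open Cfsg.Lie Matrix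
open Cert (torusHom extC extC_ne_zero)
open scoped MatrixGroups
open _root_.CfsgLib

/-- An upper transvection of `SL₂`. -/
def up {K : Type*} [Field K] (t : K) : SL(2, K) :=
  ⟨!![1, t; 0, 1], by simp [Matrix.det_fin_two]⟩

@[simp] theorem up_val {K : Type*} [Field K] (t : K) : ((up t : SL(2, K)) : Matrix (Fin 2) (Fin 2) K) = !![1, t; 0, 1] := rfl

/-- A lower transvection of `SL₂`. -/
def low {K : Type*} [Field K] (t : K) : SL(2, K) :=
  ⟨!![1, 0; t, 1], by simp [Matrix.det_fin_two]⟩

@[simp] theorem low_val {K : Type*} [Field K] (t : K) : ((low t : SL(2, K)) : Matrix (Fin 2) (Fin 2) K) = !![1, 0; t, 1] := rfl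

theorem sl2_closure {K : Type*} [Field K] {H : Subgroup SL(2, K)} (h1 : ∀ t : K, up t ∈ H)
    (h2 : ∀ t : K, low t ∈ H) : H = ⊤ := by
  refine Classical.eq_top_of_transvection_mem H fun i j hij c => ?_
  match i, j, hij with
  | 0, 0, hij => exact absurd rfl hij
  | 0, 1, _ =>
    convert h1 c using 1
    refine Subtype.ext ?_
    show Matrix.transvection (0 : Fin 2) 1 c = _
    rw [up_val]
    ext a b; fin_cases a <;> fin_cases b <;> simp [Matrix.transvection, Matrix.single]
  | 1, 0, _ =>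
    convert h2 c using 1
    refine Subtype.ext ?_
    show Matrix.transvection (1 : Fin 2) 0 c = _
    rw [low_val]
    ext a b; fin_cases a <;> fin_cases b <;> simp [Matrix.transvection, Matrix.single]
  | 1, 1, hij => exact absurd rfl hij

theorem hom_ext {K : Type*} [Field K] {G : Type*} [Group G] {F₁ F₂ : SL(2, K) →* G}
    (h1 : ∀ t, F₁ (up t) = F₂ (up t)) (h2 : ∀ t, F₁ (low t) = F₂ (low t)) (g : SL(2, K)) :
    F₁ g = F₂ g := by
  have := sl2_closure (H := F₁.eqLocus F₂) h1 h2
  exact (this ▸ Subgroup.mem_top g : g ∈ F₁.eqLocus F₂)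

theorem lt_simple : tabD4.simple 1 < tabD4.n := by decide +kernel

/-- The central simple root. -/
noncomputable def α : ℕ := tabD4.simple 1

variable {L : Type*} [Field L]

/-- The `SL₂` of the central node. -/
noncomputable def phi : SL(2, L) →* GL chevD4.Idx L :=
  (certD4.exists_sl2_hom (F := L) (r := α) lt_simple).choose

theorem phi_mem (g : SL(2, L)) :
    phi g ∈ chevD4.rootSubgroup L α ⊔ chevD4.rootSubgroup L (tabD4.neg α) :=
  (certD4.exists_sl2_hom (F := L) (r := α) lt_simple).choose_spec.1 g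

theorem phi_up (t : L) : phi (up t) = X chevD4 α t :=
  (certD4.exists_sl2_hom (F := L) (r := α) lt_simple).choose_spec.2.1 _ t rfl

theorem phi_low (t : L) : phi (low t) = X chevD4 (tabD4.neg α) t :=
  (certD4.exists_sl2_hom (F := L) (r := α) lt_simple).choose_spec.2.2 _ t rfl

theorem phi_mem_group (g : SL(2, L)) : phi g ∈ chevD4.group L := by
  have h : (chevD4.group L).comap phi = ⊤ := sl2_closure
    (fun t => by rw [Subgroup.mem_comap, phi_up]; exact certD4.X_mem_group lt_simple t)
    (fun t => by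
      rw [Subgroup.mem_comap, phi_low]
      exact certD4.X_mem_group (Cert.neg_lt lt_simple) t)
  exact (h ▸ Subgroup.mem_top g : g ∈ (chevD4.group L).comap phi)

theorem phi_map {K : Type*} [Field K] (f : K →+* L) (g : SL(2, K)) :
    mapGL chevD4 f (phi g) = phi (Matrix.SpecialLinearGroup.map f g) := by
  have e1 : ∀ t, Matrix.SpecialLinearGroup.map f (up t) = up (f t) := fun t => by
    refine Subtype.ext ?_
    rw [Matrix.SpecialLinearGroup.map_apply_coe, up_val, up_val]
    ext i j; fin_cases i <;> fin_cases j <;> simp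
  have e2 : ∀ t, Matrix.SpecialLinearGroup.map f (low t) = low (f t) := fun t => by
    refine Subtype.ext ?_
    rw [Matrix.SpecialLinearGroup.map_apply_coe, low_val, low_val]
    ext i j; fin_cases i <;> fin_cases j <;> simp
  refine hom_ext (F₁ := (mapGL chevD4 f).comp phi)
    (F₂ := phi.comp (Matrix.SpecialLinearGroup.map f)) (fun t => ?_) (fun t => ?_) g
  · simp only [MonoidHom.comp_apply, phi_up, e1, certD4.X_map]
  · simp only [MonoidHom.comp_apply, phi_low, e2, certD4.X_map]

/-- Conjugation of `SL₂` by `diag(a, 1)`. -/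
noncomputable def scaleConj (a : Lˣ) : SL(2, L) →* SL(2, L) where
  toFun g := ⟨!![g.1 0 0, a * g.1 0 1; (a : L)⁻¹ * g.1 1 0, g.1 1 1], by
    have := g.2
    rw [Matrix.det_fin_two] at this
    simp only [Matrix.det_fin_two, Matrix.of_apply, Matrix.cons_val', Matrix.cons_val_zero,
      Matrix.empty_val', Matrix.cons_val_fin_one, Matrix.cons_val_one]
    field_simp
    linear_combination this⟩
  map_one' := by
    ext i j; fin_cases i <;> fin_cases j <;> simp
  map_mul' g g' := by
    refine Subtype.ext ?_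
    show (!![(g.1 * g'.1) 0 0, (a : L) * (g.1 * g'.1) 0 1;
        (a : L)⁻¹ * (g.1 * g'.1) 1 0, (g.1 * g'.1) 1 1]) =
      !![g.1 0 0, a * g.1 0 1; (a : L)⁻¹ * g.1 1 0, g.1 1 1] *
        !![g'.1 0 0, a * g'.1 0 1; (a : L)⁻¹ * g'.1 1 0, g'.1 1 1]
    ext i j
    fin_cases i <;> fin_cases j <;> simp [Matrix.mul_apply, Fin.sum_univ_two] <;> field_simp

theorem scaleConj_val (a : Lˣ) (g : SL(2, L)) :
    (scaleConj a g).1 = !![g.1 0 0, a * g.1 0 1; (a : L)⁻¹ * g.1 1 0, g.1 1 1] := rfl

/-- The value of the central root on a torus element. -/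
theorem charOf_alpha (u : Fin tabD4.l → Lˣ) :
    charOf tabD4 (extC tabD4 u) α =
      ((u ⟨1, by decide⟩ ^ 2 * (u ⟨0, by decide⟩ * u ⟨2, by decide⟩ * u ⟨3, by decide⟩)⁻¹ : Lˣ) : L) := by
  have hc : ∀ i : Fin 4, tabD4.car i α = ![-1, 2, -1, -1] i := by decide +kernel
  rw [charOf]
  show ∏ i ∈ Finset.range 4, _ = _
  rw [Finset.prod_range_succ, Finset.prod_range_succ,
    Finset.prod_range_succ, Finset.prod_range_succ, Finset.prod_range_zero]
  rw [show tabD4.car 0 α = -1 from hc 0, show tabD4.car 1 α = 2 from hc 1,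
    show tabD4.car 2 α = -1 from hc 2, show tabD4.car 3 α = -1 from hc 3]
  simp [extC, show tabD4.l = 4 from rfl]
  ring

theorem charOf_neg_alpha (u : Fin tabD4.l → Lˣ) :
    charOf tabD4 (extC tabD4 u) (tabD4.neg α) = (charOf tabD4 (extC tabD4 u) α)⁻¹ := by
  have hc : ∀ i : Fin 4, tabD4.car i (tabD4.neg α) = -tabD4.car i α := by decide +kernel
  rw [charOf, charOf, ← Finset.prod_inv_distrib]
  refine Finset.prod_congr rfl fun i hi => ?_
  rw [show tabD4.car i (tabD4.neg α) = -tabD4.car i α from hc ⟨i, Finset.mem_range.1 hi⟩,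
    _root_.zpow_neg]

/-- Torus elements conjugate the `SL₂` of the central node by a scaling. -/
theorem torus_phi (u : Fin tabD4.l → Lˣ) (a : Lˣ)
    (ha : (a : L) = charOf tabD4 (extC tabD4 u) α) (g : SL(2, L)) :
    torusHom (D := chevD4) (T := tabD4) u * phi g =
      phi (scaleConj a g) * torusHom (D := chevD4) (T := tabD4) u := by
  set t := torusHom (D := chevD4) (T := tabD4) u with ht
  have key : ∀ r < tabD4.n, ∀ y : L,
      t * X chevD4 r y = X chevD4 r (charOf tabD4 (extC tabD4 u) r * y) * t := by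
    intro r hr y
    refine Units.ext ?_
    rw [Units.val_mul, Units.val_mul, certD4.coe_X, certD4.coe_X]
    exact certD4.torus_mul_x (certD4.isChar_charOf fun i _ => extC_ne_zero u i) hr y
  have hu : ∀ y, scaleConj a (up y) = up (a * y) := fun y => by
    ext i j; rw [scaleConj_val]; fin_cases i <;> fin_cases j <;> simp [up]
  have hl : ∀ y, scaleConj a (low y) = low ((a : L)⁻¹ * y) := fun y => by
    ext i j; rw [scaleConj_val]; fin_cases i <;> fin_cases j <;> simp [low]
  have h := hom_ext (F₁ := (MulAut.conj t).toMonoidHom.comp phi)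
    (F₂ := phi.comp (scaleConj a)) (fun y => ?_) (fun y => ?_) g
  · simp only [MonoidHom.comp_apply, MulEquiv.coe_toMonoidHom, MulAut.conj_apply] at h
    exact mul_inv_eq_iff_eq_mul.1 h
  · simp only [MonoidHom.comp_apply, MulEquiv.coe_toMonoidHom, MulAut.conj_apply, phi_up, hu]
    rw [key α (show α < tabD4.n from lt_simple), mul_inv_cancel_right, ha]
  · simp only [MonoidHom.comp_apply, MulEquiv.coe_toMonoidHom, MulAut.conj_apply, phi_low, hl]
    rw [key _ (Cert.neg_lt (show α < tabD4.n from lt_simple)), mul_inv_cancel_right, charOf_neg_alpha, ha]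

/-- The diagonal of the `SL₂` of the central node. -/
theorem phi_diag (e : Lˣ) :
    phi ⟨!![(e : L), 0; 0, (e : L)⁻¹], by simp [Matrix.det_fin_two]⟩ =
      torusHom (D := chevD4) (T := tabD4) (Pi.mulSingle ⟨1, by decide⟩ e) := by
  rw [Endo.torusHom_mulSingle (h := certD4)]
  show _ = hU chevD4 α (e : L)
  have hn : ∀ t : L, nU chevD4 α t = phi (up t * low (-t⁻¹) * up t) := fun t => by
    rw [nU, certD4.neg_eq (show α < tabD4.n from lt_simple), map_mul, map_mul, phi_up, phi_low]
  rw [hU, hn, hn, ← map_mul]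
  congr 1
  refine Subtype.ext ?_
  simp only [Matrix.SpecialLinearGroup.coe_mul, up_val, low_val]
  ext i j
  fin_cases i <;> fin_cases j <;>
    simp [Matrix.mul_apply, Fin.sum_univ_two]

/-! ### The twist -/

variable (f : L →+* L)

theorem act_phi (g : SL(2, L)) :
    (endoD4 f).act (phi g) = phi (Matrix.SpecialLinearGroup.map f g) := by
  have hα : twistD4a.rt α = α ∧ twistD4a.ep α = 1 ∧ twistD4a.dg α = 1 ∧
      twistD4a.rt (tabD4.neg α) = tabD4.neg α ∧ twistD4a.ep (tabD4.neg α) = 1 ∧
      twistD4a.dg (tabD4.neg α) = 1 := by decide +kernel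
  have e1 : ∀ t, Matrix.SpecialLinearGroup.map f (up t) = up (f t) := fun t => by
    refine Subtype.ext ?_
    rw [Matrix.SpecialLinearGroup.map_apply_coe, up_val, up_val]
    ext i j; fin_cases i <;> fin_cases j <;> simp
  have e2 : ∀ t, Matrix.SpecialLinearGroup.map f (low t) = low (f t) := fun t => by
    refine Subtype.ext ?_
    rw [Matrix.SpecialLinearGroup.map_apply_coe, low_val, low_val]
    ext i j; fin_cases i <;> fin_cases j <;> simp
  let F₁ : SL(2, L) →* GL chevD4.Idx L :=
    MonoidHom.mk' (fun g => (endoD4 f).act (phi g)) fun a b => by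
      rw [map_mul, (endoD4 f).act_mul (phi_mem_group a) (phi_mem_group b)]
  refine hom_ext (F₁ := F₁) (F₂ := phi.comp (Matrix.SpecialLinearGroup.map f)) (fun t => ?_)
    (fun t => ?_) g
  · show (endoD4 f).act (phi (up t)) = phi (Matrix.SpecialLinearGroup.map f (up t))
    rw [e1, phi_up, phi_up, (endoD4 f).act_X (show α < tabD4.n from lt_simple)]
    show X chevD4 (twistD4a.rt α) ((twistD4a.ep α : L) * f t ^ twistD4a.dg α) = _
    rw [hα.1, hα.2.1, hα.2.2.1]; simp
  · show (endoD4 f).act (phi (low t)) = phi (Matrix.SpecialLinearGroup.map f (low t))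
    rw [e2, phi_low, phi_low, (endoD4 f).act_X (Cert.neg_lt (show α < tabD4.n from lt_simple))]
    show X chevD4 (twistD4a.rt (tabD4.neg α))
      ((twistD4a.ep (tabD4.neg α) : L) * f t ^ twistD4a.dg (tabD4.neg α)) = _
    rw [hα.2.2.2.1, hα.2.2.2.2.1, hα.2.2.2.2.2]; simp

theorem act_inv {g : GL chevD4.Idx L} (hg : g ∈ chevD4.group L) :
    (endoD4 f).act g⁻¹ = ((endoD4 f).act g)⁻¹ := by
  refine eq_inv_of_mul_eq_one_left ?_
  rw [← (endoD4 f).act_mul (inv_mem hg) hg, inv_mul_cancel, (endoD4 f).act_one]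

/-- The twist commutes with an extension of scalars. -/
theorem act_map {K : Type*} [Field K] (f₀ : K →+* K) (ι : K →+* L)
    (hι : ∀ t, ι (f₀ t) = f (ι t)) {g : GL chevD4.Idx K} (hg : g ∈ chevD4.group K) :
    (endoD4 f).act (mapGL chevD4 ι g) = mapGL chevD4 ι ((endoD4 f₀).act g) := by
  let F₁ : ↥(chevD4.group K) →* GL chevD4.Idx L :=
    MonoidHom.mk' (fun g => (endoD4 f).act (mapGL chevD4 ι g)) fun a b => by
      rw [Subgroup.coe_mul, map_mul, (endoD4 f).act_mul (certD4.map_mem_group ι a.2)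
        (certD4.map_mem_group ι b.2)]
  let F₂ : ↥(chevD4.group K) →* GL chevD4.Idx L :=
    MonoidHom.mk' (fun g => mapGL chevD4 ι ((endoD4 f₀).act g)) fun a b => by
      rw [Subgroup.coe_mul, (endoD4 f₀).act_mul a.2 b.2, map_mul]
  suffices h : F₁.eqLocus F₂ = ⊤ by
    exact (h ▸ Subgroup.mem_top (⟨g, hg⟩ : ↥(chevD4.group K)) :
      (⟨g, hg⟩ : ↥(chevD4.group K)) ∈ F₁.eqLocus F₂)
  apply Subgroup.map_injective (chevD4.group K).subtype_injective
  refine le_antisymm (Subgroup.map_mono le_top) ?_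
  rw [← MonoidHom.range_eq_map, Subgroup.range_subtype]
  conv_lhs => rw [certD4.group_eq]
  rw [gen, Subgroup.closure_le]
  rintro _ ⟨r, hr, t, rfl⟩
  refine ⟨⟨_, certD4.X_mem_group hr t⟩, ?_, rfl⟩
  show (endoD4 f).act (mapGL chevD4 ι (X chevD4 r t)) = mapGL chevD4 ι ((endoD4 f₀).act _)
  rw [certD4.X_map, (endoD4 f).act_X hr, (endoD4 f₀).act_X hr, certD4.X_map]
  show X chevD4 (twistD4a.rt r) ((twistD4a.ep r : L) * f (ι t) ^ twistD4a.dg r) =
    X chevD4 (twistD4a.rt r) (ι ((twistD4a.ep r : K) * f₀ t ^ twistD4a.dg r))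
  rw [map_mul, map_pow, map_intCast, hι]

end CfsgLib.Chev.TorusD4
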