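import Cfsg.Agent.Lib.Chev.TwistD4
import Cfsg.Agent.Lib.Chev.GTorus.Weyl

/-!
The exponents of the torus of order `(q³ - 1)(q + 1)` of `³D₄(q)` on the roots of `D₄`: no root is
trivial and the simple roots are recognizable.
-/

set_option autoImplicit false
set_option maxRecDepth 100000

namespace CfsgLib.Chev.TorusD4

open Cfsg.Lie Matrix

/-- The exponents as vectors of digits in base `q`. -/
def V : Fin 4 → Fin 6 → ℤ :=
  ![![1, 0, 0, 1, 0, 0], ![0, 1, 0, 1, 0, 1], ![0, 1, 0, 0, 1, 0], ![0, 0, 1, 0, 0, 1]]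

/-- The exponents. -/
def expV (q : ℤ) : Fin tabD4.l → ℤ := fun i => ∑ k : Fin 6, V i k * q ^ (k : ℕ)

/-- The digits of the exponent of a root. -/
noncomputable def digit (r : ℕ) (k : Fin 6) : ℤ :=
  ∑ i : Fin tabD4.l, V i k * tabD4.car i r

theorem dot_eq (q : ℤ) (r : ℕ) :
    expV q ⬝ᵥ GTorus.carV tabD4 r = ∑ k : Fin 6, digit r k * q ^ (k : ℕ) := by
  simp only [dotProduct, expV, digit, GTorus.carV, Finset.sum_mul]
  rw [Finset.sum_comm]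
  exact Finset.sum_congr rfl fun k _ => Finset.sum_congr rfl fun i _ => by ring

theorem eq_zero_of_small {q c : ℤ} {d : ℤ} (hd : -4 ≤ d ∧ d ≤ 4) (hq : 9 ≤ q)
    (h : d + q * c = 0) : d = 0 ∧ c = 0 := by
  have h1 : q ∣ d := ⟨-c, by linear_combination h⟩
  have h2 : d = 0 := Int.eq_zero_of_abs_lt_dvd h1 (by rw [abs_lt]; omega)
  refine ⟨h2, ?_⟩
  rw [h2, zero_add] at h
  exact (mul_eq_zero.1 h).resolve_left (by omega)

theorem digits_eq_zero {q : ℕ} (hq : 9 ≤ q) (d : Fin 6 → ℤ) (hd : ∀ k, -4 ≤ d k ∧ d k ≤ 4)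
    (h : ((q : ℤ) ^ 6 - 1) ∣ ∑ k : Fin 6, d k * (q : ℤ) ^ (k : ℕ)) : ∀ k, d k = 0 := by
  have hq' : (9 : ℤ) ≤ q := by exact_mod_cast hq
  set Q : ℤ := (q : ℤ) with hQ
  have e : ∑ k : Fin 6, d k * Q ^ (k : ℕ) =
      d 0 + Q * (d 1 + Q * (d 2 + Q * (d 3 + Q * (d 4 + Q * (d 5 + Q * 0))))) := by
    simp [Fin.sum_univ_succ]
    ring
  have h0 : ∑ k : Fin 6, d k * Q ^ (k : ℕ) = 0 := by
    refine Int.eq_zero_of_abs_lt_dvd h ?_
    have hp : ∀ k : Fin 6, (0 : ℤ) ≤ Q ^ (k : ℕ) := fun k => by positivity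
    have hb : |∑ k : Fin 6, d k * Q ^ (k : ℕ)| ≤ ∑ k : Fin 6, 4 * Q ^ (k : ℕ) := by
      refine (Finset.abs_sum_le_sum_abs _ _).trans (Finset.sum_le_sum fun k _ => ?_)
      rw [abs_mul, abs_of_nonneg (hp k)]
      exact mul_le_mul_of_nonneg_right (abs_le.2 (hd k)) (hp k)
    refine lt_of_le_of_lt hb ?_
    have : (Q - 1) * ∑ k : Fin 6, 4 * Q ^ (k : ℕ) = 4 * (Q ^ 6 - 1) := by
      simp [Fin.sum_univ_succ]
      ring
    nlinarith [one_lt_pow₀ (show (1 : ℤ) < Q by omega) (show 6 ≠ 0 by norm_num)]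
  rw [e] at h0
  obtain ⟨a0, h0⟩ := eq_zero_of_small (hd 0) hq' h0
  obtain ⟨a1, h0⟩ := eq_zero_of_small (hd 1) hq' h0
  obtain ⟨a2, h0⟩ := eq_zero_of_small (hd 2) hq' h0
  obtain ⟨a3, h0⟩ := eq_zero_of_small (hd 3) hq' h0
  obtain ⟨a4, h0⟩ := eq_zero_of_small (hd 4) hq' h0
  obtain ⟨a5, -⟩ := eq_zero_of_small (hd 5) hq' h0
  intro k
  fin_cases k <;> assumption

theorem digit_facts : ∀ r : Fin 24,
    (∀ k, -2 ≤ digit r k ∧ digit r k ≤ 2) ∧ (∃ k, digit r k ≠ 0) ∧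
      ∀ j : Fin tabD4.l, (∀ k, digit (tabD4.simple j) k = digit r k) → (r : ℕ) = tabD4.simple j := by
  decide +kernel

theorem digit_simple_bound : ∀ j : Fin tabD4.l, ∀ k,
    -2 ≤ digit (tabD4.simple j) k ∧ digit (tabD4.simple j) k ≤ 2 := by
  decide +kernel

theorem small_facts : ∀ q : Fin 9, 2 ≤ (q : ℕ) → ∀ r : Fin 24,
    (∑ k : Fin 6, digit r k * ((q : ℕ) : ℤ) ^ (k : ℕ)) % ((((q : ℕ) : ℤ)) ^ 6 - 1) ≠ 0 ∧
      ∀ j : Fin tabD4.l,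
        (∑ k : Fin 6, (digit (tabD4.simple j) k - digit r k) * ((q : ℕ) : ℤ) ^ (k : ℕ)) %
            (((q : ℕ) : ℤ) ^ 6 - 1) = 0 →
          (r : ℕ) = tabD4.simple j ∨ ((j : ℕ) = 1 ∧ ∃ i : Fin tabD4.l, (i : ℕ) ≠ 1 ∧
            tabD4.car i r ≠ tabD4.car i (tabD4.simple 1)) := by
  decide +kernel

/-- No root is trivial. -/
theorem nontrivial_root {q : ℕ} (hq : 2 ≤ q) {r : ℕ} (hr : r < tabD4.n) :
    ¬ ((q : ℤ) ^ 6 - 1) ∣ expV (q : ℤ) ⬝ᵥ GTorus.carV tabD4 r := by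
  have hn : tabD4.n = 24 := (by decide +kernel)
  intro h
  rw [dot_eq] at h
  rcases Nat.lt_or_ge q 9 with h9 | h9
  · exact (small_facts ⟨q, h9⟩ hq ⟨r, hn ▸ hr⟩).1 (Int.emod_eq_zero_of_dvd h)
  · obtain ⟨hb, ⟨k, hk⟩, -⟩ := digit_facts ⟨r, hn ▸ hr⟩
    refine hk (digits_eq_zero h9 _ (fun k => ?_) h k)
    have := hb k
    exact ⟨by linarith [this.1], by linarith [this.2]⟩

/-- A root with the value of a simple root, and the pairings of the central one, is that root. -/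
theorem simple_root {q : ℕ} (hq : 2 ≤ q) {r : ℕ} (hr : r < tabD4.n) (j : Fin tabD4.l)
    (h : ((q : ℤ) ^ 6 - 1) ∣ expV (q : ℤ) ⬝ᵥ GTorus.carV tabD4 (tabD4.simple j) -
      expV (q : ℤ) ⬝ᵥ GTorus.carV tabD4 r) :
    r = tabD4.simple j ∨ ((j : ℕ) = 1 ∧ ∃ i : Fin tabD4.l, (i : ℕ) ≠ 1 ∧
      tabD4.car i r ≠ tabD4.car i (tabD4.simple 1)) := by
  have hn : tabD4.n = 24 := (by decide +kernel)
  rw [dot_eq, dot_eq, ← Finset.sum_sub_distrib] at h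
  simp only [← sub_mul] at h
  rcases Nat.lt_or_ge q 9 with h9 | h9
  · exact (small_facts ⟨q, h9⟩ hq ⟨r, hn ▸ hr⟩).2 j (Int.emod_eq_zero_of_dvd h)
  · obtain ⟨hb, -, he⟩ := digit_facts ⟨r, hn ▸ hr⟩
    refine Or.inl (he j fun k => ?_)
    refine sub_eq_zero.1 (digits_eq_zero h9 _ (fun k => ?_) h k)
    have h1 := hb k
    have h2 := digit_simple_bound j k
    exact ⟨by linarith [h1.2, h2.1], by linarith [h1.1, h2.2]⟩

end CfsgLib.Chev.TorusD4
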