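import Cfsg.Agent.Lib.Chev.TorusD4.Basic
import Cfsg.Agent.Lib.Chev.TorusD4.Regular
import Cfsg.Agent.Lib.Chev.GTorus.Main

/-!
A self-centralizing cyclic subgroup of order `(q³ - 1)(q + 1)` of `³D₄(q)`.
-/

set_option autoImplicit false
set_option maxRecDepth 100000
set_option maxHeartbeats 1000000
set_option linter.unusedSectionVars false

namespace CfsgLib.Chev.TorusD4

open Cfsg.Lie Matrix
open Cert (torusHom extC extC_ne_zero coe_matHom_cartanT)
open scoped MatrixGroups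

/-- A diagonal element of `SL₂`. -/
def diag2 {L : Type*} [Field L] (e : Lˣ) : SL(2, L) :=
  ⟨!![(e : L), 0; 0, (e : L)⁻¹], by simp [Matrix.det_fin_two]⟩

theorem diag2_val {L : Type*} [Field L] (e : Lˣ) :
    ((diag2 e : SL(2, L)) : Matrix (Fin 2) (Fin 2) L) = !![(e : L), 0; 0, (e : L)⁻¹] := rfl

/-- A Weyl element of `SL₂`. -/
def weyl2 {L : Type*} [Field L] (s : Lˣ) : SL(2, L) :=
  ⟨!![0, -(s : L); (s : L)⁻¹, 0], by simp [Matrix.det_fin_two]⟩

theorem weyl2_val {L : Type*} [Field L] (s : Lˣ) :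
    ((weyl2 s : SL(2, L)) : Matrix (Fin 2) (Fin 2) L) = !![0, -(s : L); (s : L)⁻¹, 0] := rfl

theorem phi_diag2 {L : Type*} [Field L] (e : Lˣ) :
    phi (diag2 e) = torusHom (D := chevD4) (T := tabD4) (Pi.mulSingle ⟨1, by decide⟩ e) :=
  phi_diag e

theorem expV_vals (q : ℤ) : expV q ⟨0, by decide⟩ = 1 + q ^ 3 ∧
    expV q ⟨1, by decide⟩ = q + q ^ 3 + q ^ 5 ∧ expV q ⟨2, by decide⟩ = q + q ^ 4 ∧
    expV q ⟨3, by decide⟩ = q ^ 2 + q ^ 5 := by
  refine ⟨?_, ?_, ?_, ?_⟩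
  · show ∑ k : Fin 6, V (0 : Fin 4) k * q ^ (k : ℕ) = _
    simp [V, Fin.sum_univ_six]
  · show ∑ k : Fin 6, V (1 : Fin 4) k * q ^ (k : ℕ) = _
    simp [V, Fin.sum_univ_six]
  · show ∑ k : Fin 6, V (2 : Fin 4) k * q ^ (k : ℕ) = _
    simp [V, Fin.sum_univ_six]
  · show ∑ k : Fin 6, V (3 : Fin 4) k * q ^ (k : ℕ) = _
    simp [V, Fin.sum_univ_six]

theorem fin4_cases : ∀ i : Fin tabD4.l, i = ⟨0, by decide⟩ ∨ i = ⟨1, by decide⟩ ∨ i = ⟨2, by decide⟩ ∨
    i = ⟨3, by decide⟩ := by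
  decide

section

variable {L : Type*} [Field L]

/-- The Weyl element of the central node on the torus. -/
theorem weyl_conj (s : Lˣ) (u : Fin tabD4.l → Lˣ) :
    phi (weyl2 s) *
        torusHom (D := chevD4) (T := tabD4) u =
      torusHom (D := chevD4) (T := tabD4) (Function.update u ⟨1, by decide⟩
        (u ⟨0, by decide⟩ * u ⟨2, by decide⟩ * u ⟨3, by decide⟩ * (u ⟨1, by decide⟩)⁻¹)) *
        phi (weyl2 s) := by
  set i1 : Fin tabD4.l := ⟨1, by decide⟩ with hi1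
  set P : SL(2, L) := weyl2 s with hP
  set a : Lˣ := (u ⟨0, by decide⟩ * u ⟨2, by decide⟩ * u ⟨3, by decide⟩)⁻¹ with ha
  set u' := Function.update u i1 1 with hu'
  have e1 : ∀ (b : Lˣ), Function.update u i1 b = u' * Pi.mulSingle i1 b := fun b => by
    funext i
    rcases eq_or_ne i i1 with rfl | hne
    · simp [u']
    · simp [u', Pi.mulSingle_eq_of_ne hne, Function.update_of_ne hne]
  have h1 : torusHom (D := chevD4) (T := tabD4) u' * phi (scaleConj a⁻¹ P) =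
      phi P * torusHom (D := chevD4) (T := tabD4) u' := by
    rw [torus_phi u' a ?_]
    · congr 2
      refine Subtype.ext ?_
      rw [scaleConj_val, scaleConj_val, hP, weyl2_val]
      ext i j; fin_cases i <;> fin_cases j <;> simp
    · rw [charOf_alpha]
      simp [u', ha, i1, Function.update_apply]
  set b : Lˣ := u ⟨0, by decide⟩ * u ⟨2, by decide⟩ * u ⟨3, by decide⟩ * (u i1)⁻¹ with hb
  have hu : u = u' * Pi.mulSingle i1 (u i1) := by
    rw [← e1, Function.update_eq_self]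
  conv_lhs => rw [hu]
  rw [e1, map_mul, map_mul, ← phi_diag2, ← phi_diag2, ← mul_assoc, ← h1, mul_assoc, mul_assoc]
  congr 1
  refine (map_mul phi _ _).symm.trans (Eq.trans ?_ (map_mul phi _ _))
  congr 1
  refine Subtype.ext ?_
  rw [Matrix.SpecialLinearGroup.coe_mul, Matrix.SpecialLinearGroup.coe_mul, scaleConj_val, hP,
    weyl2_val, diag2_val, diag2_val]
  show (!![(0 : L), (a⁻¹ : Lˣ) * -(s : L); ((a⁻¹ : Lˣ) : L)⁻¹ * (s : L)⁻¹, 0]) *
      !![(u i1 : L), 0; 0, (u i1 : L)⁻¹] =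
    !![(b : L), 0; 0, (b : L)⁻¹] * !![(0 : L), -(s : L); (s : L)⁻¹, 0]
  ext i j
  fin_cases i <;> fin_cases j <;> simp [Matrix.mul_apply, Fin.sum_univ_two, hb, ha] <;> ring

/-- The kernel of the torus. -/
theorem ker_facts {k : Fin tabD4.l → Lˣ}
    (hk : k ∈ (torusHom (D := chevD4) (T := tabD4) (F := L)).ker) :
    (∀ i, k i ^ 2 = 1) ∧ k ⟨1, by decide⟩ = 1 ∧
      k ⟨0, by decide⟩ * k ⟨2, by decide⟩ * k ⟨3, by decide⟩ = 1 := by
  have hsq : ∀ i, k i ^ 2 = 1 := certD4.ker_pow invCartanD4_mul_smul hk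
  rw [certD4.ker_torusHom, MonoidHom.mem_ker] at hk
  have h0 := congrFun hk ⟨0, by decide⟩
  have h1 := congrFun hk ⟨1, by decide⟩
  have hrow : ∀ i : Fin tabD4.l,
      cartanT tabD4 ⟨0, by decide⟩ i = ([2, -1, 0, 0] : List ℤ).getD i 0 ∧
      cartanT tabD4 ⟨1, by decide⟩ i = ([-1, 2, -1, -1] : List ℤ).getD i 0 := by decide +kernel
  simp only [matHom_apply, (hrow _).1, Pi.one_apply] at h0
  simp only [matHom_apply, (hrow _).2, Pi.one_apply] at h1
  have e0 : k ⟨0, by decide⟩ ^ (2 : ℤ) * k ⟨1, by decide⟩ ^ (-1 : ℤ) *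
      k ⟨2, by decide⟩ ^ (0 : ℤ) * k ⟨3, by decide⟩ ^ (0 : ℤ) = 1 := by
    rw [← h0]
    exact (Fin.prod_univ_four fun i : Fin 4 => k i ^ ([2, -1, 0, 0] : List ℤ).getD i 0).symm
  have e1 : k ⟨0, by decide⟩ ^ (-1 : ℤ) * k ⟨1, by decide⟩ ^ (2 : ℤ) *
      k ⟨2, by decide⟩ ^ (-1 : ℤ) * k ⟨3, by decide⟩ ^ (-1 : ℤ) = 1 := by
    rw [← h1]
    exact (Fin.prod_univ_four fun i : Fin 4 => k i ^ ([-1, 2, -1, -1] : List ℤ).getD i 0).symm
  rw [zpow_ofNat, hsq, _root_.zpow_neg_one, _root_.zpow_zero, _root_.zpow_zero, one_mul, mul_one,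
    mul_one, inv_eq_one] at e0
  rw [e0, _root_.one_zpow, mul_one, _root_.zpow_neg_one, _root_.zpow_neg_one, _root_.zpow_neg_one,
    ← mul_inv, ← mul_inv, inv_eq_one] at e1
  exact ⟨hsq, e0, e1⟩

end

/-- The torus of order `(q³ - 1)(q + 1)`, with the fields as parameters. -/
theorem exists_torus_aux {K : Type*} [Field K] [Fintype K] {L : Type*} [Field L] [Fintype L]
    (q : ℕ) (hq : IsPrimePow q) (hK : Fintype.card K = q ^ 3) (hL : Nat.card L = q ^ 6)
    (ι : K →+* L) (σ : L →+* L) (σK : K →+* K) (hσ : ∀ x, σ x = x ^ q)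
    (hσK : ∀ x, σK x = x ^ q) :
    ∃ H : Subgroup ↥(Cfsg.Lie.twistedD4 K q), IsCyclic ↥H ∧
      Nat.card ↥H = (q ^ 3 - 1) * (q + 1) ∧
      Subgroup.centralizer (H : Set ↥(Cfsg.Lie.twistedD4 K q)) = H := by
  classical
  have hq2 : 2 ≤ q := hq.two_le
  have hιinj : Function.Injective ι := ι.injective
  have hισ : ∀ t, ι (σK t) = σ (ι t) := fun t => by rw [hσK, hσ, map_pow]
  -- a generator of the units of `L`
  obtain ⟨ω, hω⟩ := IsCyclic.exists_ofOrder_eq_natCard (α := Lˣ)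
  have hωN : (orderOf ω : ℤ) = (q : ℤ) ^ 6 - 1 := by
    rw [hω, Nat.card_units, hL,
      Nat.cast_sub (Nat.one_le_pow _ _ (by omega))]
    push_cast
    rfl
  set N : ℤ := (q : ℤ) ^ 6 - 1 with hN
  have hωeq : ∀ a b : ℤ, ω ^ a = ω ^ b ↔ N ∣ a - b := fun a b => by
    rw [← hωN, orderOf_dvd_iff_zpow_eq_one, _root_.zpow_sub, mul_inv_eq_one]
  have hgen : ∀ x : Lˣ, ∃ m : ℤ, ω ^ m = x := fun x => by
    refine Subgroup.mem_zpowers_iff.1 ?_
    rw [Subgroup.eq_top_of_card_eq (Subgroup.zpowers ω) (by rw [Nat.card_zpowers, hω])]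
    exact Subgroup.mem_top x
  set Q : ℤ := (q : ℤ) with hQ
  have hQ2 : 2 ≤ Q := by rw [hQ]; exact_mod_cast hq2
  have hpow : ∀ a : ℤ, (ω ^ a) ^ q = ω ^ (a * Q) := fun a => by
    rw [← zpow_natCast, ← _root_.zpow_mul]
  have hσu : ∀ a : ℤ, σ ((ω ^ a : Lˣ) : L) = ((ω ^ (a * Q) : Lˣ) : L) := fun a => by
    rw [hσ, ← Units.val_pow_eq_pow_val, hpow]
  -- the exponents
  set W : ℤ := 1 + Q ^ 2 + Q ^ 4 with hW
  set S : ℤ := 1 + Q + Q ^ 2 + Q ^ 3 + Q ^ 4 + Q ^ 5 with hS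
  set E0 : ℤ := 1 + Q ^ 3 with hE0
  set E1 : ℤ := Q + Q ^ 3 + Q ^ 5 with hE1
  set i0 : Fin tabD4.l := ⟨0, by decide⟩ with hi0
  set i1 : Fin tabD4.l := ⟨1, by decide⟩ with hi1
  set i2 : Fin tabD4.l := ⟨2, by decide⟩ with hi2
  set i3 : Fin tabD4.l := ⟨3, by decide⟩ with hi3
  obtain ⟨hV0, hV1, hV2, hV3⟩ : expV Q i0 = E0 ∧ expV Q i1 = E1 ∧ expV Q i2 = E0 * Q ∧
      expV Q i3 = E0 * Q * Q := by
    obtain ⟨a0, a1, a2, a3⟩ := expV_vals Q
    exact ⟨a0, a1, a2.trans (by rw [hE0]; ring), a3.trans (by rw [hE0]; ring)⟩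
  let zc : Fin tabD4.l → Lˣ := fun i => ω ^ expV Q i
  set β : L := ((ω ^ (-W) : Lˣ) : L) with hβ
  set β' : L := ((ω ^ (-W * Q) : Lˣ) : L) with hβ'
  set d : Lˣ := ω ^ S with hd
  have hσβ : σ β = β' := hσu _
  have hσβ' : σ β' = β := by
    rw [hβ', hσu, hβ]; congr 1
    exact (hωeq _ _).2 ⟨-1, by rw [hW, hN]; ring⟩
  have hσd : σ (d : L) = d := by
    rw [hd, hσu]; congr 1
    exact (hωeq _ _).2 ⟨1, by rw [hS, hN]; ring⟩
  have hββ : β * β' = (d : L)⁻¹ := by
    rw [hβ, hβ', hd, ← Units.val_inv_eq_inv_val, ← Units.val_mul, ← _root_.zpow_add,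
      ← _root_.zpow_neg]
    congr 1
    exact (hωeq _ _).2 ⟨0, by rw [hW, hS, hN]; ring⟩
  have hed : ((zc i1 : Lˣ) : L) = β * d := by
    rw [hβ, hd, ← Units.val_mul, ← _root_.zpow_add]
    congr 1
    exact (hωeq _ _).2 ⟨0, by rw [hV1, hE1, hW, hS, hN]; ring⟩
  have hprod : zc i0 * zc i2 * zc i3 = d := by
    rw [hd]
    simp only [zc, ← _root_.zpow_add]
    exact (hωeq _ _).2 ⟨0, by rw [hV0, hV2, hV3, hE0, hS, hN]; ring⟩
  have hne : β' - β ≠ 0 := by
    intro e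
    rw [sub_eq_zero, hβ, hβ', Units.val_inj, hωeq] at e
    have h1 : -W * Q - -W = -((Q - 1) * W) := by ring
    rw [h1, dvd_neg] at e
    have h2 : 0 < (Q - 1) * W := mul_pos (by omega) (by rw [hW]; positivity)
    have h3 := Int.le_of_dvd h2 e
    have h4 : N = (Q - 1) * W * (Q + 1) := by rw [hN, hW]; ring
    nlinarith
  set s : Lˣ := (Units.mk0 _ hne)⁻¹ with hs
  have hsv : (s : L) = (β' - β)⁻¹ := by rw [hs, Units.val_inv_eq_inv_val, Units.val_mk0]
  -- descent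
  have hrange : ∀ x : L, σ x = x → ∃ y, ι y = x ∧ σK y = y := fun x hx => by
    have hx' : x ^ Fintype.card K = x := by
      rw [hK, show q ^ 3 = q * q * q by ring, pow_mul, pow_mul, ← hσ, ← hσ, ← hσ, hx, hx, hx]
    obtain ⟨y, hy⟩ := (GTorus.mem_range_iff_pow ι x).1 hx'
    exact ⟨y, hy, hιinj (by rw [hισ, hy, hx])⟩
  obtain ⟨m10, hm10, hm10'⟩ := hrange (-(d : L)⁻¹) (by rw [map_neg, map_inv₀, hσd])
  obtain ⟨m01, hm01, hm01'⟩ := hrange (d : L) hσd
  obtain ⟨m11, hm11, hm11'⟩ := hrange (β + β') (by rw [map_add, hσβ, hσβ', add_comm])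
  have hMdet : (!![(0 : K), m10; m01, m11]).det = 1 := hιinj (by
    rw [Matrix.det_fin_two, map_one, map_sub, map_mul, map_mul]
    show ι 0 * ι m11 - ι m10 * ι m01 = 1
    rw [hm10, hm01, map_zero, zero_mul, zero_sub, neg_mul, neg_neg,
      inv_mul_cancel₀ (Units.ne_zero d)])
  let MK : SL(2, K) := ⟨!![(0 : K), m10; m01, m11], hMdet⟩
  have hMKfix : Matrix.SpecialLinearGroup.map σK MK = MK := by
    refine Subtype.ext ?_
    rw [Matrix.SpecialLinearGroup.map_apply_coe]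
    ext i j
    fin_cases i <;> fin_cases j <;> simp [MK, hm10', hm01', hm11']
  obtain ⟨c₀, hc₀⟩ : ∃ c : K, ι c = ((zc i0 : Lˣ) : L) := by
    refine (GTorus.mem_range_iff_pow ι _).1 ?_
    rw [hK, ← Units.val_pow_eq_pow_val, ← zpow_natCast, ← _root_.zpow_mul]
    congr 1
    refine (hωeq _ _).2 ⟨1, ?_⟩
    rw [hV0, hE0, hN]; push_cast; ring
  have hc₀0 : c₀ ≠ 0 := fun e => (zc i0).ne_zero (by rw [← hc₀, e, map_zero])
  let c : Kˣ := Units.mk0 c₀ hc₀0
  let cK : Fin tabD4.l → Kˣ := fun i => ([c, 1, c ^ q, (c ^ q) ^ q] : List Kˣ).getD i 1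
  have hc3 : ((c ^ q) ^ q) ^ q = c := Units.ext (by
    rw [Units.val_pow_eq_pow_val, Units.val_pow_eq_pow_val, Units.val_pow_eq_pow_val,
      pow_cubeD4 hK])
  have hcKfix : (endoD4 σK).tor cK = cK := by
    refine tor_fix_ofD4 σK hσK fun i => ?_
    obtain ⟨i, hi⟩ := i
    have hi' : i < 4 := hi
    interval_cases i
    · rfl
    · exact (one_pow q).symm
    · rfl
    · exact hc3.symm
  have hτK : torusHom (D := chevD4) (T := tabD4) cK ∈ chevD4.group K :=
    certD4.diagonal_le_group (certD4.range_torusHom.le ⟨cK, rfl⟩)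
  set xK := phi MK * torusHom (D := chevD4) (T := tabD4) cK with hxK
  have hxKg : xK ∈ chevD4.group K := mul_mem (phi_mem_group _) hτK
  have hfix : (endoD4 σK).fix = Cfsg.Lie.twistedD4 K q := fix_eq_twistedD4 σK hσK hK hq
  have hxfix : xK ∈ (endoD4 σK).fix := by
    refine (endoD4 σK).mem_fix.2 ⟨hxKg, ?_⟩
    rw [hxK, (endoD4 σK).act_mul (phi_mem_group _) hτK, act_phi, hMKfix,
      (endoD4 σK).act_torusHom, hcKfix]
  -- the diagonalization
  set u₀ : Fin tabD4.l → Lˣ := fun i => Units.map ι.toMonoidHom (cK i) with hu₀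
  have hu₀v : u₀ i0 = zc i0 ∧ u₀ i1 = 1 ∧ u₀ i2 = zc i2 ∧ u₀ i3 = zc i3 := by
    have hcz : Units.map ι.toMonoidHom c = zc i0 := Units.ext hc₀
    refine ⟨hcz, map_one _, ?_, ?_⟩
    · show Units.map ι.toMonoidHom (c ^ q) = _
      rw [map_pow, hcz]; simp only [zc]; rw [hpow, hV0, hV2]
    · show Units.map ι.toMonoidHom ((c ^ q) ^ q) = _
      rw [map_pow, map_pow, hcz]; simp only [zc]; rw [hpow, hpow, hV0, hV3]
  obtain ⟨hu00, hu01, hu02, hu03⟩ := hu₀v
  have hu₀z : Pi.mulSingle i1 (zc i1) * u₀ = zc := by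
    funext i
    rcases fin4_cases i with rfl | rfl | rfl | rfl
    · rw [Pi.mul_apply, Pi.mulSingle_eq_of_ne (by decide), one_mul]; exact hu00
    · rw [Pi.mul_apply, Pi.mulSingle_eq_same, show u₀ ⟨1, _⟩ = 1 from hu01, mul_one]
    · rw [Pi.mul_apply, Pi.mulSingle_eq_of_ne (by decide), one_mul]; exact hu02
    · rw [Pi.mul_apply, Pi.mulSingle_eq_of_ne (by decide), one_mul]; exact hu03
  let A : SL(2, L) := ⟨!![(s : L), s * β; 1, β'], by
    rw [Matrix.det_fin_two]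
    show (s : L) * β' - s * β * 1 = 1
    rw [mul_one, ← mul_sub, hsv, inv_mul_cancel₀ hne]⟩
  have hAval : ((A : SL(2, L)) : Matrix (Fin 2) (Fin 2) L) = !![(s : L), s * β; 1, β'] := rfl
  let P : SL(2, L) := weyl2 s
  have hβ0 : β ≠ 0 := Units.ne_zero _
  have hd0 : (d : L) ≠ 0 := Units.ne_zero _
  set g := phi A with hg
  have hgg : g ∈ chevD4.group L := phi_mem_group A
  have hconj : g * mapGL chevD4 ι xK * g⁻¹ = torusHom (D := chevD4) (T := tabD4) zc := by
    rw [hxK, map_mul, phi_map, GTorus.mapGL_torusHom ι cK, ← hu₀, ← mul_assoc, hg, ← map_mul]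
    have ha : ((d⁻¹ : Lˣ) : L) = charOf tabD4 (extC tabD4 u₀) α := by
      rw [charOf_alpha]
      congr 1
      rw [show u₀ ⟨1, _⟩ = 1 from hu01, show u₀ ⟨0, _⟩ = zc i0 from hu00,
        show u₀ ⟨2, _⟩ = zc i2 from hu02, show u₀ ⟨3, _⟩ = zc i3 from hu03, hprod, one_pow, one_mul]
    have hAM : A * Matrix.SpecialLinearGroup.map ι MK =
        diag2 (zc i1) * scaleConj d⁻¹ A := by
      refine Subtype.ext ?_
      rw [Matrix.SpecialLinearGroup.coe_mul, Matrix.SpecialLinearGroup.coe_mul,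
        Matrix.SpecialLinearGroup.map_apply_coe, scaleConj_val, diag2_val]
      show !![(s : L), s * β; 1, β'] * (!![(0 : K), m10; m01, m11]).map ι = _ *
        !![(s : L), ((d⁻¹ : Lˣ) : L) * (s * β); (((d⁻¹ : Lˣ)) : L)⁻¹ * 1, β']
      rw [Units.val_inv_eq_inv_val, hed]
      have hb' : β' = β⁻¹ * (d : L)⁻¹ := by rw [← hββ, inv_mul_cancel_left₀ hβ0]
      ext i j
      fin_cases i <;> fin_cases j <;>
        simp [Matrix.mul_apply, Fin.sum_univ_two, hm10, hm01, hm11, Units.val_inv_eq_inv_val,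
          -_root_.inv_inv] <;>
        simp only [hb'] <;> field_simp <;> ring_nf
    rw [hAM, map_mul, mul_assoc (phi _) (phi _) (torusHom u₀), ← torus_phi u₀ d⁻¹ ha, phi_diag2,
      ← mul_assoc, mul_inv_cancel_right, ← map_mul, hu₀z]
  -- no root is trivial
  have hchar : ∀ r, charOf tabD4 (extC tabD4 zc) r =
      ((ω ^ (expV Q ⬝ᵥ GTorus.carV tabD4 r) : Lˣ) : L) := fun r =>
    GTorus.charOf_zpow ω (expV Q) r
  have hreg : ∀ r < tabD4.n, charOf tabD4 (extC tabD4 zc) r ≠ 1 := fun r hr e => by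
    rw [hchar, Units.val_eq_one, ← zpow_zero ω, hωeq, sub_zero] at e
    exact nontrivial_root hq2 hr e
  have hkerinv : ∀ k : Fin tabD4.l → Lˣ,
      k ∈ (torusHom (D := chevD4) (T := tabD4) (F := L)).ker → ∀ i, k i ^ q = k i := by
    intro k hk i
    have h4 : (k i : L) ^ 2 = 1 := by
      rw [← Units.val_pow_eq_pow_val, (ker_facts hk).1 i, Units.val_one]
    refine Units.ext ?_
    rw [Units.val_pow_eq_pow_val, ← hσ]
    rcases sq_eq_one_iff.1 h4 with e | e <;> rw [e] <;> simp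
  let φ : ↥(Cfsg.Lie.twistedD4 K q) →* GL chevD4.Idx L :=
    (MulAut.conj g).toMonoidHom.comp ((mapGL chevD4 ι).comp (Cfsg.Lie.twistedD4 K q).subtype)
  have hφinj : Function.Injective φ := fun a a' e =>
    Subtype.ext (mapGL_injective chevD4 ι ((MulAut.conj g).injective e))
  let x : ↥(Cfsg.Lie.twistedD4 K q) := ⟨xK, hfix ▸ hxfix⟩
  have hφx : φ x = torusHom (D := chevD4) (T := tabD4) zc := hconj
  -- the order
  have hord : orderOf x = (q ^ 3 - 1) * (q + 1) := by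
    have hm : (((q ^ 3 - 1) * (q + 1) : ℕ) : ℤ) = (Q ^ 3 - 1) * (Q + 1) := by
      rw [Nat.cast_mul, Nat.cast_sub (Nat.one_le_pow _ _ (by omega))]; push_cast; rfl
    refine Nat.dvd_antisymm ?_ ?_
    · rw [orderOf_dvd_iff_pow_eq_one, ← zpow_natCast, hm]
      refine hφinj ?_
      rw [map_zpow, hφx, ← map_zpow, map_one]
      rw [show zc ^ ((Q ^ 3 - 1) * (Q + 1)) = 1 from ?_, map_one]
      funext i
      rw [Pi.pow_apply, Pi.one_apply, ← _root_.zpow_mul, ← zpow_zero ω, hωeq, sub_zero]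
      rcases fin4_cases i with rfl | rfl | rfl | rfl
      · exact ⟨Q + 1, by rw [hV0, hE0, hN]; ring⟩
      · exact ⟨Q * (Q ^ 2 + Q + 1), by rw [hV1, hE1, hN]; ring⟩
      · exact ⟨Q * (Q + 1), by rw [hV2, hE0, hN]; ring⟩
      · exact ⟨Q * Q * (Q + 1), by rw [hV3, hE0, hN]; ring⟩
    · have h1 : zc ^ ((orderOf x : ℤ)) ∈ (torusHom (D := chevD4) (T := tabD4) (F := L)).ker := by
        rw [MonoidHom.mem_ker, map_zpow, ← hφx, ← map_zpow, zpow_natCast, pow_orderOf_eq_one,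
          map_one]
      rw [← Int.natCast_dvd_natCast, hm]
      generalize (orderOf x : ℤ) = J at h1 ⊢
      obtain ⟨hsq, hk1, hk023⟩ := ker_facts h1
      have hk0 := hkerinv _ h1 i0
      have hk2 := hkerinv _ h1 i2
      simp only [Pi.pow_apply] at hk1 hk023 hk0 hk2 hsq
      have e2 : zc i2 ^ J = zc i0 ^ J := by
        conv_rhs => rw [← hk0]
        simp only [zc]
        rw [hV0, hV2, ← _root_.zpow_mul, ← _root_.zpow_mul, hpow]; ring_nf
      have e3 : zc i3 ^ J = zc i0 ^ J := by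
        rw [← e2]
        conv_rhs => rw [← hk2]
        simp only [zc]
        rw [hV3, hV2, ← _root_.zpow_mul, ← _root_.zpow_mul, hpow]; ring_nf
      rw [show zc ⟨2, _⟩ ^ J = zc i0 ^ J from e2, show zc ⟨3, _⟩ ^ J = zc i0 ^ J from e3,
        ← pow_two, hsq i0, one_mul] at hk023
      have h0 : N ∣ E0 * J := by
        rw [← sub_zero (E0 * J), ← hωeq, _root_.zpow_mul, zpow_zero, ← hV0]; exact hk023
      have h1' : N ∣ E1 * J := by
        rw [← sub_zero (E1 * J), ← hωeq, _root_.zpow_mul, zpow_zero, ← hV1]; exact hk1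
      have hfac : N = E0 * (Q ^ 3 - 1) := by rw [hN, hE0]; ring
      have hE00 : E0 ≠ 0 := by
        have : 0 < E0 := by rw [hE0]; positivity
        omega
      rw [hfac, mul_dvd_mul_iff_left hE00] at h0
      obtain ⟨i, rfl⟩ := h0
      obtain ⟨t, ht⟩ := h1'
      have hW0 : W * (Q - 1) ≠ 0 := mul_ne_zero (by
        have : 0 < W := by rw [hW]; positivity
        omega) (by omega)
      have h5 : (Q + 1) * t = i * (Q ^ 3 + Q ^ 2 + Q) := by
        refine mul_left_cancel₀ hW0 ?_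
        rw [hN, hE1] at ht
        rw [hW]
        linear_combination -ht
      refine mul_dvd_mul_left _ ⟨i * (Q ^ 2 + 1) - t, ?_⟩
      linear_combination h5
  refine ⟨Subgroup.zpowers x, inferInstance, by rw [Nat.card_zpowers, hord],
    le_antisymm (fun a ha => ?_) fun a ha => ?_⟩
  swap
  · rw [Subgroup.mem_centralizer_iff]
    intro b hb
    obtain ⟨i, rfl⟩ := Subgroup.mem_zpowers_iff.1 ha
    obtain ⟨j, rfl⟩ := Subgroup.mem_zpowers_iff.1 hb
    rw [← _root_.zpow_add, ← _root_.zpow_add, add_comm]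
  have hxa : x * a = a * x := Subgroup.mem_centralizer_iff.1 ha x (Subgroup.mem_zpowers x)
  set T := torusHom (D := chevD4) (T := tabD4) zc with hT
  have hafix : (a : GL chevD4.Idx K) ∈ (endoD4 σK).fix := hfix.symm ▸ a.2
  have hag := ((endoD4 σK).mem_fix.1 hafix).1
  have hag' := ((endoD4 σK).mem_fix.1 hafix).2
  have hcom : T * φ a = φ a * T := by rw [← hφx, ← map_mul, ← map_mul, hxa]
  have hzg : φ a ∈ chevD4.group L :=
    mul_mem (mul_mem hgg (certD4.map_mem_group ι hag)) (inv_mem hgg)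
  have hmono : φ a ∈ chevD4.monomialSubgroup L :=
    GTorus.mem_monomial_of_commute certD4 (c := extC tabD4 zc) (fun i _ => extC_ne_zero zc i)
      rfl hreg hzg hcom
  -- roots mapped into each other have the same value
  have hval : ∀ r < tabD4.n, ∀ r' < tabD4.n, Maps chevD4 (φ a) r r' →
      N ∣ expV Q ⬝ᵥ GTorus.carV tabD4 r - expV Q ⬝ᵥ GTorus.carV tabD4 r' := by
    rintro r hr r' hr' ⟨b, hb, eM⟩
    rw [← hωeq, ← Units.val_inj, ← hchar, ← hchar]
    have h1 : X chevD4 r' (charOf tabD4 (extC tabD4 zc) r' * (b * 1)) =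
        X chevD4 r' (b * (charOf tabD4 (extC tabD4 zc) r * 1)) := by
      rw [← GTorus.torusHom_conj_X certD4 zc hr', ← eM 1, ← eM,
        ← GTorus.torusHom_conj_X certD4 zc hr, ← hT]
      calc T * (φ a * X chevD4 r 1 * (φ a)⁻¹) * T⁻¹ =
          T * φ a * X chevD4 r 1 * (T * φ a)⁻¹ := by group
        _ = _ := by rw [hcom]; group
    have h2 := certD4.X_inj hr' h1
    rw [mul_one, mul_one, mul_comm b] at h2
    exact (mul_right_cancel₀ hb h2).symm
  obtain ⟨w, hw, t, ht, hwt⟩ := certD4.exists_word_of_monomial hmono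
  have hmaps : ∀ r < tabD4.n, Maps chevD4 (φ a) r (rword tabD4 w r) := fun r hr => by
    rw [hwt]
    exact Cert.Maps_mul (certD4.Maps_diagonal ht hr) (certD4.Maps_nW hw hr)
  have hsimp : ∀ j : Fin tabD4.l, rword tabD4 w (tabD4.simple j) = tabD4.simple j ∨
      ((j : ℕ) = 1 ∧ ∃ i : Fin tabD4.l, (i : ℕ) ≠ 1 ∧
        tabD4.car i (rword tabD4 w (tabD4.simple j)) ≠ tabD4.car i (tabD4.simple 1)) := fun j =>
    simple_root hq2 (certD4.rword_lt hw (certD4.simple_lt j.2)) j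
      (hval _ (certD4.simple_lt j.2) _ (certD4.rword_lt hw (certD4.simple_lt j.2))
        (hmaps _ (certD4.simple_lt j.2)))
  have hdiag : φ a ∈ chevD4.diagonalSubgroup L := by
    refine certD4.mem_diagonal_of_perm hmono fun i hi r hr hM => ?_
    have hp := (certD4.simple_spec hi).1
    have hrn : r < tabD4.n := by have := certD4.two_mul_half; omega
    have hri : r = rword tabD4 w (tabD4.simple i) :=
      certD4.Maps_unique hrn (certD4.rword_lt hw (certD4.simple_lt hi)) hM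
        (hmaps _ (certD4.simple_lt hi))
    rcases hsimp ⟨i, hi⟩ with e | ⟨e, j, hj, hne'⟩
    · simp only at e
      omega
    · simp only at e
      subst e
      have hj' := (hsimp j).resolve_right fun h => hj h.1
      have h1 := certD4.pairing_rword hw (certD4.simple_lt j.2) (certD4.simple_lt hi)
      rw [hj', certD4.pairing_simple j.2, certD4.pairing_simple j.2] at h1
      exact hne' h1
  obtain ⟨u, hu⟩ := certD4.range_torusHom.ge hdiag
  -- the twist
  have hactA : (endoD4 σ).act g = phi P * g := by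
    rw [hg, act_phi, ← map_mul]
    congr 1
    refine Subtype.ext ?_
    rw [Matrix.SpecialLinearGroup.coe_mul, Matrix.SpecialLinearGroup.map_apply_coe, weyl2_val, hAval,
      RingHom.mapMatrix_apply]
    have hσs : σ (s : L) = -(s : L) := by
      rw [hsv, map_inv₀, map_sub, hσβ, hσβ', ← inv_neg, neg_sub]
    ext i j
    fin_cases i <;> fin_cases j <;> simp [Matrix.mul_apply, Fin.sum_univ_two, hσβ, hσβ', hσs]
  have htwist : (endoD4 σ).act (φ a) = phi P * φ a * (phi P)⁻¹ := by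
    have e : (endoD4 σ).act (mapGL chevD4 ι (a : GL chevD4.Idx K)) =
        mapGL chevD4 ι (a : GL chevD4.Idx K) := by
      rw [act_map σ σK ι hισ hag, hag']
    show (endoD4 σ).act (g * mapGL chevD4 ι (a : GL chevD4.Idx K) * g⁻¹) = _
    rw [(endoD4 σ).act_mul (mul_mem hgg (certD4.map_mem_group ι hag)) (inv_mem hgg),
      (endoD4 σ).act_mul hgg (certD4.map_mem_group ι hag), (endoD4 σ).act_inv hgg, e, hactA]
    show _ = phi P * (g * mapGL chevD4 ι (a : GL chevD4.Idx K) * g⁻¹) * (phi P)⁻¹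
    group
  rw [← hu, (endoD4 σ).act_torusHom, weyl_conj s u, mul_inv_cancel_right] at htwist
  set w' := Function.update u i1 (u i0 * u i2 * u i3 * (u i1)⁻¹) with hw'
  have hkk : (endoD4 σ).tor u * w'⁻¹ ∈ (torusHom (D := chevD4) (T := tabD4) (F := L)).ker := by
    rw [MonoidHom.mem_ker, map_mul, map_inv, htwist, mul_inv_cancel]
  obtain ⟨k, hk, hku⟩ : ∃ k, k ∈ (torusHom (D := chevD4) (T := tabD4) (F := L)).ker ∧
      (endoD4 σ).tor u = k * w' := ⟨_, hkk, (inv_mul_cancel_right _ _).symm⟩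
  obtain ⟨hksq, hk1, hk023⟩ := ker_facts hk
  have hkq := hkerinv k hk
  have r0 : u i0 ^ q = k i2 * u i2 := by
    have h := congrFun hku i2
    rw [Pi.mul_apply, hw', Function.update_of_ne (by decide)] at h
    exact (torD4_val σ hσ i0).symm.trans h
  have r2 : u i2 ^ q = k i3 * u i3 := by
    have h := congrFun hku i3
    rw [Pi.mul_apply, hw', Function.update_of_ne (by decide)] at h
    exact (torD4_val σ hσ i2).symm.trans h
  have r3 : u i3 ^ q = k i0 * u i0 := by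
    have h := congrFun hku i0
    rw [Pi.mul_apply, hw', Function.update_of_ne (by decide)] at h
    exact (torD4_val σ hσ i3).symm.trans h
  have r1 : u i1 ^ q = u i0 * u i2 * u i3 * (u i1)⁻¹ := by
    have h := congrFun hku i1
    rw [Pi.mul_apply, hw', Function.update_self, show k i1 = 1 from hk1, one_mul] at h
    exact (torD4_val σ hσ i1).symm.trans h
  set v := u * (endoD4 σ).tor k with hv
  have hτv : torusHom (D := chevD4) (T := tabD4) v = φ a := by
    rw [hv, map_mul, ← (endoD4 σ).act_torusHom, MonoidHom.mem_ker.1 hk, (endoD4 σ).act_one,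
      mul_one, hu]
  have t2 : (endoD4 σ).tor k i2 = k i0 := (torD4_val σ hσ i0).trans (hkq i0)
  have t3 : (endoD4 σ).tor k i3 = k i2 := (torD4_val σ hσ i2).trans (hkq i2)
  have t0 : (endoD4 σ).tor k i0 = k i3 := (torD4_val σ hσ i3).trans (hkq i3)
  have t1 : (endoD4 σ).tor k i1 = 1 := ((torD4_val σ hσ i1).trans (hkq i1)).trans hk1
  have hinv : ∀ i, (k i)⁻¹ = k i := fun i => inv_eq_of_mul_eq_one_right (by rw [← pow_two, hksq])
  have p03 : k i2 * k i3 = k i0 := by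
    rw [← hinv i0, eq_inv_iff_mul_eq_one, mul_comm, ← mul_assoc]; exact hk023
  have p23 : k i0 * k i3 = k i2 := by
    rw [← hinv i2, eq_inv_iff_mul_eq_one, mul_right_comm]; exact hk023
  have p20 : k i0 * k i2 = k i3 := by
    rw [← hinv i3, eq_inv_iff_mul_eq_one]; exact hk023
  have v02 : v i0 ^ q = v i2 := by
    rw [hv, Pi.mul_apply, Pi.mul_apply, t0, t2, mul_pow, hkq, r0, ← p03]
    simp [mul_comm, mul_left_comm, mul_assoc]
  have v23 : v i2 ^ q = v i3 := by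
    rw [hv, Pi.mul_apply, Pi.mul_apply, t2, t3, mul_pow, hkq, r2, ← p23]
    simp [mul_comm, mul_left_comm, mul_assoc]
  have v30 : v i3 ^ q = v i0 := by
    rw [hv, Pi.mul_apply, Pi.mul_apply, t3, t0, mul_pow, hkq, r3, ← p20]
    simp [mul_comm, mul_left_comm, mul_assoc]
  have v11 : v i1 ^ q * v i1 = v i0 * v i2 * v i3 := by
    rw [hv, Pi.mul_apply, Pi.mul_apply, Pi.mul_apply, Pi.mul_apply, t1, t0, t2, t3, mul_one, r1,
      inv_mul_cancel_right]
    calc u i0 * u i2 * u i3 = u i0 * u i2 * u i3 * (k i0 * k i2 * k i3) := by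
          rw [show k i0 * k i2 * k i3 = 1 from hk023, mul_one]
      _ = _ := by simp [mul_comm, mul_left_comm, mul_assoc]
  obtain ⟨m0, hm0⟩ := hgen (v i0)
  obtain ⟨m1, hm1⟩ := hgen (v i1)
  obtain ⟨j, rfl⟩ : E0 ∣ m0 := by
    have h : ω ^ (m0 * Q * Q * Q) = ω ^ m0 := by
      rw [← hpow, ← hpow, ← hpow, hm0, v02, v23, v30]
    obtain ⟨r, hr⟩ := (hωeq _ _).1 h
    have hQ3 : Q ^ 3 - 1 ≠ 0 := by
      have : 1 < Q ^ 3 := one_lt_pow₀ (by omega) (by norm_num)
      omega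
    refine ⟨r, mul_right_cancel₀ hQ3 ?_⟩
    rw [hN] at hr
    rw [hE0]
    linear_combination hr
  obtain ⟨i, hi⟩ : (Q - 1) * W ∣ m1 - j * E1 := by
    have h : ω ^ (m1 * Q + m1) = ω ^ (E0 * j + E0 * j * Q + E0 * j * Q * Q) := by
      rw [_root_.zpow_add, _root_.zpow_add, _root_.zpow_add, ← hpow m1, ← hpow (E0 * j * Q),
        ← hpow (E0 * j), hm0, hm1, v02, v23]
      exact v11
    obtain ⟨r, hr⟩ := (hωeq _ _).1 h
    refine ⟨r - j, mul_right_cancel₀ (show Q + 1 ≠ 0 by omega) ?_⟩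
    rw [hN, hE0] at hr
    rw [hE1, hW]
    linear_combination hr
  refine Subgroup.mem_zpowers_iff.2 ⟨j - (Q ^ 3 - 1) * i, hφinj ?_⟩
  rw [map_zpow, hφx, hT, ← map_zpow, ← hτv]
  congr 1
  funext l
  have hz0 : zc i0 ^ (j - (Q ^ 3 - 1) * i) = v i0 := by
    rw [← hm0, ← _root_.zpow_mul, hωeq, hV0]
    exact ⟨-i, by rw [hN, hE0]; ring⟩
  have hz2 : zc i2 ^ (j - (Q ^ 3 - 1) * i) = v i2 := by
    rw [← v02, ← hz0]
    simp only [zc]
    rw [hV0, hV2, ← _root_.zpow_mul, ← _root_.zpow_mul, hpow]; ring_nf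
  rw [Pi.pow_apply]
  rcases fin4_cases l with rfl | rfl | rfl | rfl
  · exact hz0
  · show zc i1 ^ _ = v i1
    rw [← hm1, ← _root_.zpow_mul, hωeq, hV1]
    refine ⟨-i * (Q ^ 2 + 1), ?_⟩
    rw [hE1, hW] at hi
    rw [hN, hE1]
    linear_combination -hi
  · exact hz2
  · show zc i3 ^ _ = v i3
    rw [← v23, ← hz2]
    simp only [zc]
    rw [hV3, hV2, ← _root_.zpow_mul, ← _root_.zpow_mul, hpow]; ring_nf

/-- The torus of order `(q³ - 1)(q + 1)`. -/
theorem exists_torus {K : Type*} [Field K] [Fintype K] (q : ℕ) (hq : IsPrimePow q)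
    (hK : Fintype.card K = q ^ 3) :
    ∃ H : Subgroup ↥(Cfsg.Lie.twistedD4 K q), IsCyclic ↥H ∧
      Nat.card ↥H = (q ^ 3 - 1) * (q + 1) ∧
      Subgroup.centralizer (H : Set ↥(Cfsg.Lie.twistedD4 K q)) = H := by
  obtain ⟨p, n, hp', hn, hpq⟩ := id hq
  haveI : Fact p.Prime := ⟨Nat.prime_iff.2 hp'⟩
  haveI : CharP K p := charP_of_card_eq_prime_pow (f := n * 3) (by rw [hK, ← hpq, pow_mul])
  letI : Fintype (FiniteField.Extension K p 2) := Fintype.ofFinite _
  haveI : CharP (FiniteField.Extension K p 2) p :=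
    charP_of_injective_algebraMap (algebraMap K (FiniteField.Extension K p 2)).injective p
  exact exists_torus_aux (L := FiniteField.Extension K p 2) q hq hK
    (by rw [FiniteField.natCard_extension, Nat.card_eq_fintype_card, hK, ← pow_mul])
    (algebraMap K _) (iterateFrobenius _ p n) (iterateFrobenius K p n)
    (fun x => by rw [← hpq]; exact iterateFrobenius_def p n x)
    (fun x => by rw [← hpq]; exact iterateFrobenius_def p n x)

end CfsgLib.Chev.TorusD4
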